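import Groth.Agent.Comodule.Trig
import Groth.Agent.Comodule.Sub
import Groth.Agent.Comodule.Coalg
import Groth.Agent.MultBridge.Alg

/-! Group-like elements of a quotient of a cocommutative Hopf algebra lift, over an algebraically closed field. -/

set_option autoImplicit false
set_option backward.isDefEq.respectTransparency false
universe u
open TensorProduct WithConv

noncomputable section

namespace Groth.Agent.CharExtLib

open Comodule

variable {k : Type u} [Field k] {A C : Type u} [CommRing A] [HopfAlgebra k A] [CommRing C] [HopfAlgebra k C]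

/-- The pullback of a functional. -/
abbrev pull (π : A →ₐc[k] C) (g : C →ₗ[k] k) : WithConv (A →ₗ[k] k) := toConv (g ∘ₗ π.toLinearMap)

theorem map_smul_pull (π : A →ₐc[k] C) (g : C →ₗ[k] k) (w : A) :
    π (pull π g • w) = rcon g (Coalgebra.comul (R := k) (π w)) := by
  have h : TensorProduct.map π.toLinearMap π.toLinearMap (Coalgebra.comul (R := k) w) =
      Coalgebra.comul (R := k) (π w) := CoalgHomClass.map_comp_comul_apply π w
  rw [← h, smul_def, dact, LinearMap.comp_apply, coact_regular]
  generalize Coalgebra.comul (R := k) w = y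
  induction y using TensorProduct.induction_on with
  | zero => simp
  | add p q hp hq => simp only [map_add, hp, hq]
  | tmul p q =>
    rw [TensorProduct.map_tmul, rcon_tmul, rcon_tmul]
    exact map_smul π _ _

theorem exists_char {R N : Type*} [IsAlgClosed k] [CommRing R] [Algebra k R] [AddCommGroup N] [Module R N]
    [Module k N] [IsScalarTower k R N] [Module.Finite k N] (M : Submodule R N) (hM : IsCoatom M) {a : N}
    (ha : a ∉ M) : ∃ (c : R → k) (l : N →ₗ[k] k), l a = 1 ∧ (∀ f x, l (f • x) = c f * l x) ∧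
      ∀ f, f • a - algebraMap k R (c f) • a ∈ M := by
  let Q := N ⧸ M
  haveI : Module.Finite k Q := Module.Finite.of_surjective (M.mkQ.restrictScalars k) M.mkQ_surjective
  haveI : IsSimpleModule R Q := isSimpleModule_iff_isCoatom.2 hM
  haveI : Nontrivial Q := IsSimpleModule.nontrivial R Q
  have hscal : ∀ f : R, ∃ c : k, ∀ q : Q, f • q = c • q := fun f => by
    let T : Q →ₗ[k] Q := (LinearMap.lsmul R Q f).restrictScalars k
    obtain ⟨c, hc⟩ := Module.End.exists_eigenvalue T
    refine ⟨c, fun q => ?_⟩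
    let E : Submodule R Q :=
      { carrier := {q | f • q = c • q}
        add_mem' := fun {x y} hx hy => by
          show f • (x + y) = c • (x + y)
          rw [smul_add, smul_add, show f • x = _ from hx, show f • y = _ from hy]
        zero_mem' := by simp
        smul_mem' := fun g x hx => by
          show f • (g • x) = c • (g • x)
          rw [smul_smul, mul_comm, ← smul_smul, show f • x = c • x from hx, smul_comm] }
    obtain ⟨v, hv, hv0⟩ := hc.exists_hasEigenvector
    have hvE : v ∈ E := Module.End.mem_eigenspace_iff.1 hv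
    have hE : E = ⊤ := (eq_bot_or_eq_top E).resolve_left fun h => by
      rw [h, Submodule.mem_bot] at hvE
      exact hv0 hvE
    exact (hE.symm ▸ Submodule.mem_top : q ∈ E)
  choose c hc using hscal
  have hā : M.mkQ a ≠ 0 := fun h => ha ((Submodule.Quotient.mk_eq_zero M).1 h)
  obtain ⟨l, hl⟩ := Module.Projective.exists_dual_ne_zero k hā
  refine ⟨c, (l (M.mkQ a))⁻¹ • (l ∘ₗ M.mkQ.restrictScalars k), inv_mul_cancel₀ hl, fun f x => ?_, fun f => ?_⟩
  · simp [map_smul, hc, mul_left_comm]
  · rw [← Submodule.Quotient.mk_eq_zero]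
    show M.mkQ (f • a - algebraMap k R (c f) • a) = 0
    rw [map_sub, map_smul, map_smul, algebraMap_smul, hc, sub_self]

theorem exists_groupLike_lift [IsAlgClosed k] [Coalgebra.IsCocomm k A] (π : A →ₐc[k] C)
    (hπ : Function.Surjective π) {χ : C} (hχ : IsGroupLikeElem k χ) :
    ∃ ψ : A, IsGroupLikeElem k ψ ∧ π ψ = χ := by
  classical
  let P : ℕ → Prop := fun d => ∃ (N : Submodule (WithConv (A →ₗ[k] k)) A) (a : A), a ∈ N ∧ π a = χ ∧
    Module.Finite k (N.restrictScalars k) ∧ Module.finrank k (N.restrictScalars k) = d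
  have hP : ∃ d, P d := by
    obtain ⟨a, ha⟩ := hπ χ
    exact ⟨_, _, a, Submodule.mem_span_singleton_self a, ha, finite_span_singleton a, rfl⟩
  obtain ⟨N, a, haN, ha, hfin, hd⟩ := Nat.find_spec hP
  haveI := hfin
  haveI : Module.Finite k N := hfin
  -- a maximal proper subobject
  haveI : IsScalarTower k (WithConv (A →ₗ[k] k)) N := inferInstance
  haveI : Module.Finite (WithConv (A →ₗ[k] k)) N := Module.Finite.of_restrictScalars_finite k _ _
  have hχ0 : χ ≠ 0 := fun h => by
    have := hχ.counit_eq_one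
    rw [h, map_zero] at this
    exact zero_ne_one this
  have hne : (⊥ : Submodule (WithConv (A →ₗ[k] k)) N) ≠ ⊤ := fun h => by
    have h1 : (⟨a, haN⟩ : N) ∈ (⊥ : Submodule (WithConv (A →ₗ[k] k)) N) := h ▸ Submodule.mem_top
    rw [Submodule.mem_bot] at h1
    exact hχ0 (by rw [← ha, show a = 0 from congrArg Subtype.val h1, map_zero])
  obtain ⟨M, hM, -⟩ := (eq_top_or_exists_le_coatom (⊥ : Submodule (WithConv (A →ₗ[k] k)) N)).resolve_left hne
  have hχM : ∀ m ∈ M, π (m : A) ≠ χ := fun m hm hmχ => by
    let M' : Submodule (WithConv (A →ₗ[k] k)) A := M.map N.subtype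
    have hle : M'.restrictScalars k ≤ N.restrictScalars k := fun x hx => by
      obtain ⟨y, -, rfl⟩ := hx
      exact y.2
    have hlt : M'.restrictScalars k < N.restrictScalars k := by
      refine lt_of_le_of_ne hle fun he => hM.1 (eq_top_iff.2 fun x _ => ?_)
      have hx : (x : A) ∈ M'.restrictScalars k := he ▸ x.2
      obtain ⟨y, hy, hyx⟩ := hx
      exact (Subtype.ext hyx : y = x) ▸ hy
    haveI : Module.Finite k (M'.restrictScalars k) := Submodule.finiteDimensional_of_le hle
    refine Nat.find_min hP ?_ ⟨M', m, ⟨m, hm, rfl⟩, hmχ, inferInstance, rfl⟩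
    rw [← hd]
    exact Submodule.finrank_lt_finrank_of_lt hlt
  have haM : (⟨a, haN⟩ : N) ∉ M := fun h => hχM _ h ha
  obtain ⟨c, l, hl, hlf, hmem'⟩ := exists_char (k := k) (R := WithConv (A →ₗ[k] k)) (N := ↥N) M hM haM
  have hlc : ∀ f : WithConv (A →ₗ[k] k), l (f • (⟨a, haN⟩ : N)) = c f := fun f => by rw [hlf, hl, mul_one]
  obtain ⟨L, hL⟩ := LinearMap.exists_extend (p := N.restrictScalars k)
    (l : N.restrictScalars k →ₗ[k] k)
  have hLn : ∀ x : N, L (x : A) = l x := fun x => LinearMap.congr_fun hL x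
  let ψ : A := lcon L (Coalgebra.comul (R := k) a)
  have hψ : ∀ f : WithConv (A →ₗ[k] k), f.ofConv ψ = c f := fun f => by
    rw [eval_lcon', ← hlc]
    exact hLn ⟨f • a, N.smul_mem f haN⟩
  have hsep : ∀ {W : Type u} [AddCommGroup W] [Module k W] {x y : W}, (∀ f : W →ₗ[k] k, f x = f y) → x = y :=
    fun {W} _ _ {x y} h => sub_eq_zero.1 <| (Module.forall_dual_apply_eq_zero_iff k _).1 fun f => by
      rw [map_sub, h f, sub_self]
  have hcm : ∀ f g, c (f * g) = c f * c g := fun f g => by
    rw [← hlc, show (f * g) • (⟨a, haN⟩ : N) = f • (g • (⟨a, haN⟩ : N)) from Subtype.ext (mul_smul f g a), hlf, hlc]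
  refine ⟨ψ, ⟨?_, ?_⟩, ?_⟩
  · have h1 := hψ 1
    rw [show c 1 = 1 by rw [← hlc, one_smul, hl]] at h1
    rwa [show (1 : WithConv (A →ₗ[k] k)).ofConv = Coalgebra.counit from
      LinearMap.ext fun x => by simp [LinearMap.convOne_def]] at h1
  · refine ext_rcon fun g => hsep fun f => ?_
    have h1 := hψ (toConv f * toConv g)
    rw [hcm, ← hψ, ← hψ] at h1
    rw [rcon_tmul, map_smul, smul_eq_mul, mul_comm (g ψ)]
    refine Eq.trans ?_ h1
    rw [LinearMap.convMul_def]
    show f (rcon g (Coalgebra.comul (R := k) ψ)) =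
      LinearMap.mul' k k (TensorProduct.map f g (Coalgebra.comul (R := k) ψ))
    generalize Coalgebra.comul (R := k) ψ = y
    induction y using TensorProduct.induction_on with
    | zero => simp
    | add p q hp hq => simp only [map_add, hp, hq]
    | tmul p q => simp [mul_comm]
  · refine hsep fun g => ?_
    rw [show g (π ψ) = (pull π g).ofConv ψ from rfl, hψ]
    let F := pull π g
    have hmem := hmem' F
    have hπm : π ((F • (⟨a, haN⟩ : N) - algebraMap k (WithConv (A →ₗ[k] k)) (c F) • (⟨a, haN⟩ : N) : N) : A) =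
        (g χ - c F) • χ := by
      show π (F • a - algebraMap k (WithConv (A →ₗ[k] k)) (c F) • a) = _
      rw [algebraMap_smul, map_sub, map_smul_pull, map_smul, ha, hχ.comul_eq_tmul_self, rcon_tmul, sub_smul]
    by_contra hne'
    have hd0 : g χ - c F ≠ 0 := fun h => hne' (sub_eq_zero.1 h).symm
    refine hχM _ (M.smul_mem (algebraMap k (WithConv (A →ₗ[k] k)) (g χ - c F)⁻¹) hmem) ?_
    rw [Submodule.coe_smul, algebraMap_smul, map_smul, hπm, smul_smul, inv_mul_cancel₀ hd0, one_smul]

end Groth.Agent.CharExtLib
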